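import Groth.Agent.DevissExtLib.Tools
import Groth.Agent.DevissLib.Filtration
import Mathlib

/-!
# Dévissage for properties stable under extensions and passing to a factor of a power
-/

set_option autoImplicit false
set_option linter.all false

universe u

open CategoryTheory CategoryTheory.Limits AlgebraicGeometry TopologicalSpace Opposite

noncomputable section

namespace DevissExt

open DevissLib (St gm)

variable {X : Scheme.{u}}

/-- No nonzero submodule vanishes at the point. -/
def TF (η : X) (M : X.Modules) : Prop :=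
  ∀ (N : X.Modules) (j : N ⟶ M), Mono j → η ∉ CohB1.support N → IsZero N

theorem eq_zero_of_tf {η : X} {M : X.Modules} (h : TF η M) {N : X.Modules} (j : N ⟶ M)
    (hN : η ∉ CohB1.support N) : j = 0 := by
  have hz : IsZero (Abelian.image j) :=
    h _ (Abelian.image.ι j) inferInstance fun hm => hN (DevissLib.support_epi (Abelian.factorThruImage j) hm)
  rw [← Abelian.image.fac j, hz.eq_zero_of_src (Abelian.image.ι j), comp_zero]

theorem tf_sigma {η : X} {I : Type u} [Finite I] {M : X.Modules} (h : TF η M) : TF η (∐ fun _ : I => M) := by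
  intro N j _ hN
  haveI : Fintype I := Fintype.ofFinite I
  refine IsZero.of_mono_eq_zero j ?_
  refine Scheme.Modules.hom_ext _ _ fun U => ConcreteCategory.hom_ext _ _ fun z => ?_
  refine CycK0Lib.app_injective_proj (S := Finset.univ) (fun y _ i hi => absurd (Finset.mem_univ i) hi) _
    fun i _ => ?_
  exact congrArg (fun θ : N ⟶ M => θ.app U z)
    (eq_zero_of_tf h (j ≫ CycK0Lib.proj (fun _ : I => M) i) hN)

theorem isZero_of_push {Z : Scheme.{u}} (i : Z ⟶ X) [IsClosedImmersion i] {I : Z.Modules}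
    (hzi : IsZero ((Coh.push i).obj I)) : IsZero I := by
  refine DevissLib.isZero_of_support_empty (Set.eq_empty_of_forall_notMem fun z hz' => ?_)
  refine hz' ((QCohLib.subsingleton_stalk_iff I z).mpr fun W hzW w => ?_)
  obtain ⟨O', hO', hO''⟩ := i.isClosedEmbedding.isInducing.isOpen_iff.mp W.2
  refine ⟨i ⁻¹ᵁ ⟨O', hO'⟩, fun q hq => hO''.le hq, hO''.ge hzW, ?_⟩
  exact congr_arg (fun θ : (Coh.push i).obj I ⟶ (Coh.push i).obj I =>
    θ.app ⟨O', hO'⟩ (show Γ((Coh.push i).obj I, ⟨O', hO'⟩) from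
      I.presheaf.map (homOfLE (fun q hq => hO''.le hq)).op w))
    ((IsZero.iff_id_eq_zero _).mp hzi)

theorem tf_push {Z : Scheme.{u}} [IsIntegral Z] (i : Z ⟶ X) [IsClosedImmersion i] {I : Z.Modules}
    (ι : I ⟶ Coh.structureModule Z) [Mono ι] : TF (i (genericPoint Z)) ((Coh.push i).obj I) := by
  intro N j _ hN
  haveI : (Coh.push i).IsRightAdjoint :=
    (Scheme.Modules.pullbackPushforwardAdjunction i).isRightAdjoint
  haveI : Mono ((Coh.push i).map ι) := inferInstance
  exact DevissLib.isZero_of_mono_push i (j ≫ (Coh.push i).map ι) hN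

theorem closure_generic {Z : Scheme.{u}} [IsIntegral Z] (i : Z ⟶ X) [IsClosedImmersion i] :
    closure {i (genericPoint Z)} = Set.range ⇑i := by
  have h := (genericPoint_spec Z).image i.continuous
  rw [Set.image_univ, i.isClosedEmbedding.isClosed_range.closure_eq] at h
  exact h

theorem mem_support_push {Z : Scheme.{u}} [IsIntegral Z] (i : Z ⟶ X) [IsClosedImmersion i] {I : Z.Modules}
    (ι : I ⟶ Coh.structureModule Z) [Mono ι] (hI : ¬ IsZero I) :
    i (genericPoint Z) ∈ CohB1.support ((Coh.push i).obj I) := by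
  by_contra h
  exact hI (isZero_of_push i (tf_push i ι _ (𝟙 _) inferInstance h))

theorem stalk_push_equiv [AlgebraicGeometry.IsNoetherian X] {Z : Scheme.{u}} [IsIntegral Z] (i : Z ⟶ X)
    [IsClosedImmersion i] {I : Z.Modules} (ι : I ⟶ Coh.structureModule Z) [Mono ι] (hI : ¬ IsZero I) :
    Nonempty ((St (i (genericPoint Z))).obj ((Coh.push i).obj I) ≃ₗ[X.presheaf.stalk (i (genericPoint Z))]
      IsLocalRing.ResidueField (X.presheaf.stalk (i (genericPoint Z)))) := by
  obtain ⟨-, -, ⟨e₀⟩⟩ := DevissLib.push_generic i _ (DevissLib.isCoh_structureModule Z) ⊤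
    ⟨genericPoint Z, trivial⟩ fun W _ => DevissLib.exists_gen_structureModule W
  haveI : (Coh.push i).IsRightAdjoint :=
    (Scheme.Modules.pullbackPushforwardAdjunction i).isRightAdjoint
  haveI : Mono ((Coh.push i).map ι) := inferInstance
  set η := i (genericPoint Z)
  let R := X.presheaf.stalk η
  let L : (St η).obj ((Coh.push i).obj I) →ₗ[R] IsLocalRing.ResidueField R :=
    e₀.toLinearMap.comp ((St η).map ((Coh.push i).map ι)).hom
  have hinj : Function.Injective L :=
    e₀.injective.comp ((ModuleCat.mono_iff_injective _).mp inferInstance)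
  refine ⟨LinearEquiv.ofBijective L ⟨hinj, fun z => ?_⟩⟩
  obtain ⟨m, hm⟩ := (DevissLib.mem_support_iff_nonzero _ η).mp (mem_support_push i ι hI)
  have hy : L m ≠ 0 := fun h => hm (hinj (h.trans (map_zero L).symm))
  obtain ⟨c, hc⟩ := IsLocalRing.residue_surjective (R := R) (z / L m)
  refine ⟨c • m, ?_⟩
  rw [map_smul, Algebra.smul_def]
  change IsLocalRing.residue R c * L m = z
  rw [hc, div_mul_cancel₀ _ hy]

/-- The data at a generic point. -/
def GData (P : X.Modules → Prop) (η : X) : Prop :=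
  ∃ G : X.Modules, Coh.IsCoh G ∧ CohB1.support G ⊆ closure {η} ∧ η ∈ CohB1.support G ∧
    (∀ a ∈ IsLocalRing.maximalIdeal (X.presheaf.stalk η), ∀ m : (St η).obj G, a • m = 0) ∧
    ∀ J : X.IdealSheafData, η ∉ (J.support : Set X) →
      ∃ (G' : X.Modules) (ι' : G' ⟶ (Dual3.idealMul J).obj G), Mono ι' ∧ Coh.IsQCoh G' ∧
        Function.Bijective ((St η).map (ι' ≫ Dual3.idealMulι J G)).hom ∧ P G'

variable [AlgebraicGeometry.IsNoetherian X] (P : X.Modules → Prop)
  (hP : ∀ M N : X.Modules, Nonempty (M ≅ N) → P M → P N)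
  (h0 : ∀ M : X.Modules, IsZero M → P M)
  (h₁ : ∀ S : ShortComplex X.Modules, S.ShortExact → Coh.IsCoh S.X₁ → Coh.IsCoh S.X₂ → Coh.IsCoh S.X₃ →
    P S.X₁ → P S.X₃ → P S.X₂)
  (h₂ : ∀ (F : X.Modules) (r : ℕ), Coh.IsCoh F → 1 ≤ r → P (∐ fun _ : Fin r => F) → P F)

include hP h0 h₁ in
theorem of_pieces {M : X.Modules} (hM : Coh.IsCoh M)
    (h : ∀ (Z : Scheme.{u}) (i : Z ⟶ X), IsClosedImmersion i → IsIntegral Z → Set.range ⇑i ⊆ CohB1.support M →
      ∀ (I : Z.Modules) (ι : I ⟶ Coh.structureModule Z), Mono ι → Coh.IsQCoh I → ¬ IsZero I →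
        Coh.IsCoh ((Coh.push i).obj I) → P ((Coh.push i).obj I)) : P M := by
  obtain ⟨m, F, φ, hz, ⟨e⟩, hc, hs⟩ := DevissLib.exists_filtration hM
  have hsupp : ∀ j, j ≤ m → CohB1.support (F j) ⊆ CohB1.support M := by
    intro j hj
    induction hj using Nat.decreasingInduction with
    | self => exact (DevissLib.support_iso e).le
    | of_succ j hj ih =>
      haveI := (hs j hj).1
      exact (DevissLib.support_mono (φ j)).trans ih
  suffices key : ∀ j ≤ m, P (F j) from hP _ _ ⟨e⟩ (key m le_rfl)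
  intro j
  induction j with
  | zero => exact fun _ => h0 _ hz
  | succ j ih =>
    intro hj
    obtain ⟨hm, Z, i, hi, hZ, I, ι, hι, hI, hI0, ⟨eI⟩⟩ := hs j hj
    have hcj := hc j (Nat.le_of_succ_le hj)
    have hcj' := hc (j + 1) hj
    have hC := QCohLib.isCoh_cokernel (φ j) hcj.1 hcj'
    refine h₁ (ShortComplex.mk (φ j) (cokernel.π (φ j)) (cokernel.condition _))
      { exact := ShortComplex.exact_of_g_is_cokernel _ (cokernelIsCokernel _)
        mono_f := hm
        epi_g := inferInstanceAs (Epi (cokernel.π (φ j))) }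
      hcj hcj' hC (ih (Nat.le_of_succ_le hj))
      (hP _ _ ⟨eI.symm⟩ (h Z i hi hZ ?_ I ι hι hI hI0 (QCohLib.isCoh_of_iso eI hC)))
    rw [← closure_generic i]
    refine (QCohLib.isClosed_support M hM.2).closure_subset_iff.mpr (Set.singleton_subset_iff.mpr ?_)
    refine hsupp (j + 1) hj (DevissLib.support_epi (cokernel.π (φ j)) ?_)
    rw [DevissLib.support_iso eI]
    exact mem_support_push i ι hI0

include hP h₁ h₂ in
theorem piece_step {Z : Scheme.{u}} (i : Z ⟶ X) [IsClosedImmersion i] [IsIntegral Z] {η : X}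
    (hη : i (genericPoint Z) = η)
    (ih : ∀ N : X.Modules, Coh.IsCoh N → CohB1.support N ⊆ closure {η} → η ∉ CohB1.support N → P N)
    (hG : GData P η) (I : Z.Modules) (ι : I ⟶ Coh.structureModule Z) [Mono ι] (hI : ¬ IsZero I)
    (hM : Coh.IsCoh ((Coh.push i).obj I)) : P ((Coh.push i).obj I) := by
  classical
  subst hη
  set η := i (genericPoint Z)
  set T := closure ({η} : Set X)
  set M := (Coh.push i).obj I
  obtain ⟨G, hGc, hGT, hηG, hk, hsub⟩ := hG
  haveI : _root_.IsNoetherian (X.presheaf.stalk η) ((St η).obj G) := DevissLib.isNoetherian_stalk hGc η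
  haveI : Nontrivial ((St η).obj G) := by
    obtain ⟨a, ha⟩ := (DevissLib.mem_support_iff_nonzero G η).mp hηG
    exact ⟨⟨a, 0, ha⟩⟩
  obtain ⟨r, hr, ⟨eG⟩⟩ := exists_pi_residue hk
  obtain ⟨eM⟩ := stalk_push_equiv i ι hI
  let F : ULift.{u} (Fin r) → X.Modules := fun _ => M
  have hlf : CycK0Lib.LocFin F := locallyFinite_of_finite _
  have hB : Coh.IsCoh (∐ F) := CycK0Lib.isCoh_sigma hlf fun _ => hM
  have hMT : CohB1.support M ⊆ T :=
    (DevissLib.support_push_subset i I).trans (closure_generic i).ge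
  have hBT : CohB1.support (∐ F) ⊆ T :=
    (CycK0Lib.support_sigma hlf).trans (Set.iUnion_subset fun _ => hMT)
  have hTF : TF η (∐ F) := tf_sigma (tf_push i ι)
  let es : ((Finset.univ : Finset (ULift.{u} (Fin r))) : Type u) ≃ Fin r :=
    (Equiv.subtypeUnivEquiv fun a => Finset.mem_univ a).trans Equiv.ulift
  let e : (St η).obj G ≃ₗ[X.presheaf.stalk η] (St η).obj (∐ F) :=
    eG.trans ((LinearEquiv.funCongrLeft (X.presheaf.stalk η) _ es).trans
      ((LinearEquiv.piCongrRight fun _ => eM.symm).trans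
        (CycK0Lib.stalkEquiv (F := F) (S := Finset.univ) (x := η)
          fun i hi => absurd (Finset.mem_univ i) hi).symm))
  obtain ⟨H, p₁, p₂, hH, hHs, hjoint, hb₁, hb₂⟩ := exists_bridge_iso hGc hB η e
  have hHT : CohB1.support H ⊆ T := hHs.trans (Set.union_subset hGT hBT)
  have hT : IsClosed T := isClosed_closure
  haveI hp₁ : Mono p₁ := by
    refine Preadditive.mono_of_isZero_kernel p₁ ?_
    haveI : Mono (kernel.ι p₁ ≫ p₂) := Preadditive.mono_of_cancel_zero _ fun g hg => by
      rw [← cancel_mono (kernel.ι p₁), zero_comp]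
      exact hjoint _ _ (by rw [Category.assoc, kernel.condition, comp_zero])
        (by rw [Category.assoc]; exact hg)
    exact hTF _ (kernel.ι p₁ ≫ p₂) inferInstance (DevissLib.notMem_support_kernel p₁ η hb₁.1)
  have hK := QCohLib.isCoh_kernel p₂ hH hB.1
  obtain ⟨J₂, hJ₂, hmono⟩ := exists_mono_quot hK hGc (kernel.ι p₂ ≫ p₁)
    (DevissLib.notMem_support_kernel p₂ η hb₂.1)
  have hC₁ := QCohLib.isCoh_cokernel p₁ hH.1 hGc
  obtain ⟨J, hJ, hzero⟩ := exists_ideal_comp_zero (G := G)
    (DevissLib.isCoh_biprod hC₁ (isCoh_quot J₂ hGc))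
    (biprod.lift (cokernel.π p₁) (FormalCohLib.quotKπ J₂ G)) (η := η) fun hmem => by
      rcases DevissLib.support_biprod hmem with h' | h'
      · exact DevissLib.notMem_support_cokernel p₁ η hb₁.2 h'
      · exact notMem_support_quot J₂ hJ₂ G h'
  obtain ⟨G', ι', hι', hG'q, hG'b, hPG'⟩ := hsub J hJ
  haveI := hι'
  let θ := ι' ≫ Dual3.idealMulι J G
  haveI : Mono θ := mono_comp _ _
  have hz₁ : θ ≫ cokernel.π p₁ = 0 := by
    have h := congrArg (fun f => ι' ≫ f ≫ biprod.fst) hzero
    simpa [θ] using h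
  have hz₂ : θ ≫ FormalCohLib.quotKπ J₂ G = 0 := by
    have h := congrArg (fun f => ι' ≫ f ≫ biprod.snd) hzero
    simpa [θ] using h
  have hG' : Coh.IsCoh G' := QCohLib.isCoh_of_mono θ hGc hG'q
  let γ := Abelian.monoLift p₁ θ hz₁
  have hγ : γ ≫ p₁ = θ := Abelian.monoLift_comp p₁ θ hz₁
  let ψ := γ ≫ p₂
  haveI : Mono ψ := Preadditive.mono_of_cancel_zero _ fun g hg => by
    let l := kernel.lift p₂ (g ≫ γ) (by rw [Category.assoc]; exact hg)
    have hl : l ≫ kernel.ι p₂ = g ≫ γ := kernel.lift_ι _ _ _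
    haveI := hmono
    have hl0 : l = 0 := by
      apply (cancel_mono ((kernel.ι p₂ ≫ p₁) ≫ FormalCohLib.quotKπ J₂ G)).1
      rw [zero_comp, ← Category.assoc, ← Category.assoc, hl, Category.assoc g γ, hγ, Category.assoc, hz₂,
        comp_zero]
    have h' : g ≫ γ = 0 := by rw [← hl, hl0, zero_comp]
    rw [← cancel_mono θ, zero_comp, ← hγ, ← Category.assoc, h', zero_comp]
  have hγb : Function.Bijective ((St η).map γ).hom := by
    have h : ⇑((St η).map p₁).hom ∘ ⇑((St η).map γ).hom = ⇑((St η).map θ).hom := by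
      rw [← hγ, Functor.map_comp]; rfl
    exact (Function.Bijective.of_comp_iff' hb₁ _).mp (h ▸ hG'b)
  have hψb : Function.Bijective ((St η).map ψ).hom := by
    have h : ⇑((St η).map p₂).hom ∘ ⇑((St η).map γ).hom = ⇑((St η).map ψ).hom := by
      show _ = ⇑((St η).map (γ ≫ p₂)).hom
      rw [Functor.map_comp]; rfl
    exact h ▸ hb₂.comp hγb
  have hC := QCohLib.isCoh_cokernel ψ hG'.1 hB
  have hPC : P (cokernel ψ) := ih _ hC ((DevissLib.support_epi (cokernel.π ψ)).trans hBT)
    (DevissLib.notMem_support_cokernel ψ η hψb.2)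
  have hPB : P (∐ F) := h₁ (ShortComplex.mk ψ (cokernel.π ψ) (cokernel.condition _))
    { exact := ShortComplex.exact_of_g_is_cokernel _ (cokernelIsCokernel _)
      mono_f := inferInstance
      epi_g := inferInstanceAs (Epi (cokernel.π ψ)) } hG' hB hC hPG' hPC
  exact h₂ M r hM hr (hP _ _ ⟨Sigma.whiskerEquiv Equiv.ulift (fun _ => Iso.refl M)⟩ hPB)

include hP h0 h₁ h₂ in
/-- **Dévissage.** -/
theorem devissage (Y : Set X) (hY : IsClosed Y)
    (hG : ∀ η : X, closure {η} ⊆ Y →
      (∀ N : X.Modules, Coh.IsCoh N → CohB1.support N ⊆ closure {η} → η ∉ CohB1.support N → P N) → GData P η)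
    (M : X.Modules) (hM : Coh.IsCoh M) (hMY : CohB1.support M ⊆ Y) : P M := by
  suffices key : ∀ T : Closeds X, (T : Set X) ⊆ Y → ∀ M : X.Modules, Coh.IsCoh M →
      CohB1.support M ⊆ T → P M from key ⟨Y, hY⟩ le_rfl M hM hMY
  intro T
  induction T using WellFoundedLT.induction with
  | _ T IH =>
  intro hTY M hM hMT
  refine of_pieces P hP h0 h₁ hM fun Z i hi hZ hr I ι hι hI hI0 hcoh => ?_
  set η := i (genericPoint Z)
  have hcl : closure {η} = Set.range ⇑i := closure_generic i
  by_cases hRT : Set.range ⇑i = (T : Set X)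
  · have ih : ∀ N : X.Modules, Coh.IsCoh N → CohB1.support N ⊆ closure {η} → η ∉ CohB1.support N → P N := by
      intro N hN hNs hηN
      let T' : Closeds X := ⟨CohB1.support N, QCohLib.isClosed_support N hN.2⟩
      have hNT : (T' : Set X) ⊆ T := hNs.trans (hcl.trans hRT).le
      exact IH T' (lt_of_le_of_ne hNT fun h => hηN ((congrArg SetLike.coe h).ge (hRT.le ⟨_, rfl⟩)))
        (hNT.trans hTY) N hN le_rfl
    exact piece_step P hP h₁ h₂ i rfl ih (hG η ((hcl.trans hRT).le.trans hTY) ih) I ι hI0 hcoh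
  · let T' : Closeds X := ⟨Set.range ⇑i, i.isClosedEmbedding.isClosed_range⟩
    exact IH T' (lt_of_le_of_ne (hr.trans hMT) fun h => hRT (congrArg SetLike.coe h))
      ((hr.trans hMT).trans hTY) _ hcoh (DevissLib.support_push_subset i I)

end DevissExt

end
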