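import Groth.Agent.DevissLib.Induction
import Groth.Agent.DevissLib.ClosedImm
import Groth.Agent.DevissLib.AnnIdeal
import Groth.Agent.CycK0Lib.Sigma
import Groth.Prelude.Def_Dual3
import Groth.Agent.FormalCohLib.QuotK
import Mathlib

/-!
# Tools for dévissage without the two-out-of-three property
-/

set_option autoImplicit false
set_option linter.all false

universe u

open CategoryTheory CategoryTheory.Limits AlgebraicGeometry TopologicalSpace Opposite

noncomputable section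

namespace DevissExt

open DevissLib (St gm)

variable {X : Scheme.{u}}

theorem exists_pi_residue {R : Type u} [CommRing R] [IsLocalRing R] {N : Type u} [AddCommGroup N] [Module R N]
    [Module.Finite R N] [Nontrivial N] (hk : ∀ a ∈ IsLocalRing.maximalIdeal R, ∀ m : N, a • m = 0) :
    ∃ r : ℕ, 1 ≤ r ∧ Nonempty (N ≃ₗ[R] (Fin r → IsLocalRing.ResidueField R)) := by
  have ht : Module.IsTorsionBySet R N (IsLocalRing.maximalIdeal R : Set R) := fun m a => hk a.1 a.2 m
  letI : Module (R ⧸ IsLocalRing.maximalIdeal R) N := ht.module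
  haveI : IsScalarTower R (R ⧸ IsLocalRing.maximalIdeal R) N := ht.isScalarTower
  letI : Field (R ⧸ IsLocalRing.maximalIdeal R) := Ideal.Quotient.field _
  haveI : Module.Finite (R ⧸ IsLocalRing.maximalIdeal R) N :=
    Module.Finite.of_restrictScalars_finite R _ N
  let b := Module.finBasis (R ⧸ IsLocalRing.maximalIdeal R) N
  exact ⟨_, Module.finrank_pos, ⟨(b.equivFun.restrictScalars R)⟩⟩

/-- A submodule generated by finitely many sections on an open. -/
theorem exists_sub_through' [AlgebraicGeometry.IsNoetherian X] {M : X.Modules} (hM : Coh.IsCoh M) (U : X.Opens)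
    {m : ℕ} (s : Fin m → Γ(M, U)) :
    ∃ (H : X.Modules) (i : H ⟶ M), Mono i ∧ Coh.IsCoh H ∧ (∀ k, ∃ t : Γ(H, U), i.app U t = s k) ∧
      ∀ (x : X) (hx : x ∈ U) (a : (St x).obj H),
        ∃ c : Fin m → X.presheaf.stalk x, ((St x).map i).hom a = ∑ k, c k • gm M x hx (s k) := by
  have : Coh.IsQCoh M := hM.1
  let s' : ULift.{u} (Fin m) → Γ(M, U) := fun k => s k.down
  have hcanon : QCohLib.LocSub.Canon (QCohLib.LocSub.span M U s') U := by
    intro W a ha p hp hpU
    obtain ⟨O, hO, hOU, hpO, c, hc⟩ := ha p ⟨hp, hpU⟩ hpU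
    rw [QCohLib.map_map'] at hc
    exact ⟨O, hO.trans inf_le_left, hOU, hpO, c, hc⟩
  have hft : QCohLib.LocSub.FTBelow (QCohLib.LocSub.span M U s') U := fun p hp =>
    ⟨U, le_rfl, hp, m, s', fun i => QCohLib.LocSub.span_self s' i, fun W _ a ha => ha⟩
  obtain ⟨S, hS, hagree⟩ := QCohLib.LocSub.exists_ftExtension
    (fun W O _ => TopologicalSpace.NoetherianSpace.isCompact _) U _ hcanon hft
  have hs : ∀ k, S.mem U (s k) := fun k => (hagree U le_rfl (s k)).mpr (QCohLib.LocSub.span_self s' ⟨k⟩)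
  refine ⟨S.toModules, S.ι, inferInstance,
    ⟨QCohLib.LocSub.isQCoh_toModules S hS, QCohLib.LocSub.isFT_toModules S hS⟩,
    fun k => ⟨S.lift (s k) (hs k), S.ι_lift (s k) (hs k)⟩, fun x hx a => ?_⟩
  obtain ⟨W, hxW, z, rfl⟩ := DevissLib.exists_gm_eq _ x a
  have hz : S.mem (W ⊓ U) (M.presheaf.map (homOfLE inf_le_left).op (S.ι.app W z)) :=
    S.res inf_le_left (S.ι_app_mem z)
  obtain ⟨O, hO, hOU, hxO, c, hc⟩ := (hagree (W ⊓ U) inf_le_right _).mp hz x ⟨hxW, hx⟩ hx
  refine ⟨fun k => X.presheaf.germ O x hxO (c ⟨k⟩), ?_⟩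
  rw [DevissLib.gm_app, ← DevissLib.gm_map M (inf_le_left : W ⊓ U ≤ W) x ⟨hxW, hx⟩,
    ← DevissLib.gm_map M hO x hxO, hc]
  refine (map_sum (M.presheaf.germ O x hxO).hom _ _).trans ?_
  refine (Equiv.ulift.symm.sum_comp _).symm.trans (Finset.sum_congr rfl fun k _ => ?_)
  show gm M x hxO (c ⟨k⟩ • _) = _
  rw [DevissLib.gm_smul, DevissLib.gm_map M hOU x hxO]
  rfl

/-- A coherent module mapping to two coherent modules and inducing a given isomorphism of their stalks. -/
theorem exists_bridge_iso [AlgebraicGeometry.IsNoetherian X] {A B : X.Modules} (hA : Coh.IsCoh A) (hB : Coh.IsCoh B)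
    (η : X) (e : (St η).obj A ≃ₗ[X.presheaf.stalk η] (St η).obj B) :
    ∃ (H : X.Modules) (p₁ : H ⟶ A) (p₂ : H ⟶ B), Coh.IsCoh H ∧
      CohB1.support H ⊆ CohB1.support A ∪ CohB1.support B ∧
      (∀ (W : X.Modules) (w : W ⟶ H), w ≫ p₁ = 0 → w ≫ p₂ = 0 → w = 0) ∧
      Function.Bijective ((St η).map p₁).hom ∧ Function.Bijective ((St η).map p₂).hom := by
  classical
  haveI : _root_.IsNoetherian (X.presheaf.stalk η) ((St η).obj A) := DevissLib.isNoetherian_stalk hA η
  obtain ⟨m, g, hg⟩ := Module.Finite.exists_fin (R := X.presheaf.stalk η) (M := (St η).obj A)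
  choose Wa hWa a ha using fun k => DevissLib.exists_gm_eq A η (g k)
  choose Wb hWb b hb using fun k => DevissLib.exists_gm_eq B η (e (g k))
  let U : X.Opens := Finset.univ.inf fun k => Wa k ⊓ Wb k
  have hU : η ∈ U := by
    show η ∈ ((Finset.univ.inf fun k => Wa k ⊓ Wb k : X.Opens) : Set X)
    rw [Opens.coe_finset_inf, Finset.inf_set_eq_iInter]
    simp only [Set.mem_iInter]
    exact fun k _ => ⟨hWa k, hWb k⟩
  have hle : ∀ k, U ≤ Wa k ⊓ Wb k := fun k => Finset.inf_le (Finset.mem_univ k)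
  let a' : Fin m → Γ(A, U) := fun k => A.presheaf.map (homOfLE ((hle k).trans inf_le_left)).op (a k)
  let b' : Fin m → Γ(B, U) := fun k => B.presheaf.map (homOfLE ((hle k).trans inf_le_right)).op (b k)
  have ha' : ∀ k, gm A η hU (a' k) = g k := fun k => (DevissLib.gm_map A _ η hU _).trans (ha k)
  have hb' : ∀ k, gm B η hU (b' k) = e (g k) := fun k => (DevissLib.gm_map B _ η hU _).trans (hb k)
  let v : Fin m → Γ(A ⊞ B, U) := fun k =>
    (biprod.inl : A ⟶ A ⊞ B).app U (a' k) + (biprod.inr : B ⟶ A ⊞ B).app U (b' k)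
  have hv₁ : ∀ k, (biprod.fst : A ⊞ B ⟶ A).app U (v k) = a' k := fun k => by
    rw [map_add]
    refine (congr_arg₂ (· + ·) (congr_arg (fun φ : A ⟶ A => φ.app U (a' k)) biprod.inl_fst)
      (congr_arg (fun φ : B ⟶ A => φ.app U (b' k)) biprod.inr_fst)).trans ?_
    exact add_zero _
  have hv₂ : ∀ k, (biprod.snd : A ⊞ B ⟶ B).app U (v k) = b' k := fun k => by
    rw [map_add]
    refine (congr_arg₂ (· + ·) (congr_arg (fun φ : A ⟶ B => φ.app U (a' k)) biprod.inl_snd)
      (congr_arg (fun φ : B ⟶ B => φ.app U (b' k)) biprod.inr_snd)).trans ?_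
    exact zero_add _
  obtain ⟨H, i, hi, hH, ht, hst⟩ := exists_sub_through' (DevissLib.isCoh_biprod hA hB) U v
  choose t ht using ht
  let p₁ := i ≫ (biprod.fst : A ⊞ B ⟶ A)
  let p₂ := i ≫ (biprod.snd : A ⊞ B ⟶ B)
  have hp₁ : ∀ k, ((St η).map p₁).hom (gm H η hU (t k)) = g k := fun k => by
    rw [DevissLib.gm_app]
    exact (congr_arg _ ((congr_arg _ (ht k)).trans (hv₁ k))).trans (ha' k)
  have hp₂ : ∀ k, ((St η).map p₂).hom (gm H η hU (t k)) = e (g k) := fun k => by
    rw [DevissLib.gm_app]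
    exact (congr_arg _ ((congr_arg _ (ht k)).trans (hv₂ k))).trans (hb' k)
  have hi' : Function.Injective ((St η).map i).hom := (ModuleCat.mono_iff_injective _).mp inferInstance
  have hgen : ∀ z : (St η).obj H, ∃ c : Fin m → X.presheaf.stalk η, z = ∑ k, c k • gm H η hU (t k) := fun z => by
    obtain ⟨c, hc⟩ := hst η hU z
    refine ⟨c, hi' (hc.trans ?_)⟩
    rw [map_sum]
    refine Finset.sum_congr rfl fun k _ => ?_
    rw [map_smul, DevissLib.gm_app, ht]
  have hcomm : ∀ z, ((St η).map p₂).hom z = e (((St η).map p₁).hom z) := fun z => by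
    obtain ⟨c, rfl⟩ := hgen z
    simp only [map_sum, map_smul, hp₁, hp₂]
  have hinj : Function.Injective ((St η).map p₁).hom := by
    refine (injective_iff_map_eq_zero _).2 fun z hz => hi' ?_
    have hz₂ : ((St η).map p₂).hom z = 0 := by rw [hcomm, hz, map_zero]
    rw [map_zero]
    refine (DevissLib.biprod_ext η _ ?_ ?_).trans rfl
    · refine Eq.trans ?_ hz
      simp [p₁]
    · refine Eq.trans ?_ hz₂
      simp [p₂]
  have hsurj : Function.Surjective ((St η).map p₁).hom := fun y => by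
    obtain ⟨c, rfl⟩ := (Submodule.mem_span_range_iff_exists_fun _).1 (hg.ge (Submodule.mem_top (x := y)))
    exact ⟨∑ k, c k • gm H η hU (t k), by simp only [map_sum, map_smul, hp₁]⟩
  have h₂ : ⇑((St η).map p₂).hom = ⇑e ∘ ⇑((St η).map p₁).hom := funext hcomm
  refine ⟨H, p₁, p₂, hH, (DevissLib.support_mono i).trans DevissLib.support_biprod, fun W w h1 h2 => ?_,
    ⟨hinj, hsurj⟩, h₂ ▸ e.bijective.comp ⟨hinj, hsurj⟩⟩
  apply (cancel_mono i).1
  apply biprod.hom_ext
  · rw [zero_comp, zero_comp, Category.assoc]; exact h1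
  · rw [zero_comp, zero_comp, Category.assoc]; exact h2

theorem pow_ideal (J : X.IdealSheafData) (n : ℕ) (U : X.affineOpens) :
    (J ^ n).ideal U = J.ideal U ^ n := by
  simp

theorem mono_of_app_injective {M N : X.Modules} (φ : M ⟶ N) [Coh.IsQCoh M] [Coh.IsQCoh N]
    (h : ∀ (x : X), ∃ (U : X.Opens) (_ : IsAffineOpen U), x ∈ U ∧ Function.Injective (φ.app U)) : Mono φ := by
  have : Coh.IsQCoh (kernel φ) := QCohLib.isQCoh_kernel φ
  refine Preadditive.mono_of_isZero_kernel φ (DevissLib.isZero_of_support_empty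
    (Set.eq_empty_of_forall_notMem fun x => ?_))
  obtain ⟨U, hU, hx, hinj⟩ := h x
  refine not_not.2 ((QCohLib.subsingleton_stalk_iff _ x).mpr fun W hW z => ?_)
  obtain ⟨f, hfW, hxf⟩ := QCohLib.exists_basicOpen_nhd hU hW hx
  refine ⟨X.basicOpen f, hfW, hxf, ?_⟩
  have h0 : ∀ s : Γ(kernel φ, U), s = 0 := fun s => QCohLib.app_injective_of_mono (kernel.ι φ) U (hinj (by
    rw [map_zero, map_zero]
    exact congrArg (fun θ : kernel φ ⟶ N => θ.app U s) (kernel.condition φ)))
  obtain ⟨n, m, hm⟩ := (QCohLib.localizingAt_of_isQCoh hU (kernel φ) f).exists_extend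
    ((kernel φ).presheaf.map (homOfLE hfW).op z)
  rw [h0 m, map_zero] at hm
  exact ((QCohLib.isUnit_res f (le_refl (X.basicOpen f))).choose_spec ▸ Units.isUnit _ |>.pow n).smul_eq_zero.mp
    hm.symm

theorem isCoh_quot [AlgebraicGeometry.IsNoetherian X] (J : X.IdealSheafData) {G : X.Modules} (hG : Coh.IsCoh G) :
    Coh.IsCoh ((FormalCohLib.quotK J).obj G) :=
  FormalCohLib.isCoh_quotK J hG

theorem notMem_support_quot (J : X.IdealSheafData) {η : X} (hη : η ∉ (J.support : Set X)) (G : X.Modules) :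
    η ∉ CohB1.support ((FormalCohLib.quotK J).obj G) := fun h =>
  hη (J.range_subschemeι.le (DevissLib.support_push_subset J.subschemeι _ h))

theorem support_quot_subset [AlgebraicGeometry.IsNoetherian X] (J : X.IdealSheafData) {G : X.Modules}
    (hG : Coh.IsCoh G) {T : Set X} (hT : IsClosed T) (hGT : CohB1.support G ⊆ T) :
    CohB1.support ((FormalCohLib.quotK J).obj G) ⊆ T :=
  haveI := hG.1
  haveI := (isCoh_quot J hG).1
  haveI : Epi (FormalCohLib.quotKπ J G) := by
    refine QCohLib.epi_of_surjective_on_affines _ fun V a x hx => ?_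
    obtain ⟨U, hU, hxU, hUV⟩ := Opens.isBasis_iff_nbhd.mp X.isBasis_affineOpens (show x ∈ V from hx)
    obtain ⟨b, hb⟩ := FormalCohLib.app_quotKπ_surjective J G hU
      (((FormalCohLib.quotK J).obj G).presheaf.map (homOfLE hUV).op a)
    exact ⟨U, hUV, hxU, b, hb⟩
  (DevissLib.support_epi (FormalCohLib.quotKπ J G)).trans hGT

/-- A coherent submodule supported away from a point embeds in a quotient supported away from it. -/
theorem exists_mono_quot [AlgebraicGeometry.IsNoetherian X] {K G : X.Modules} (hK : Coh.IsCoh K) (hG : Coh.IsCoh G)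
    (k : K ⟶ G) [Mono k] {η : X} (hη : η ∉ CohB1.support K) :
    ∃ J : X.IdealSheafData, η ∉ (J.support : Set X) ∧ Mono (k ≫ FormalCohLib.quotKπ J G) := by
  classical
  haveI := hK.1
  haveI := hG.1
  let J₀ := DevissLib.annIdeal K hK.2
  obtain ⟨C, hC⟩ : ∃ C : Finset X.affineOpens, ∀ x, ∃ V ∈ C, x ∈ V.1 := by
    choose U hU hx using fun x : X => QCohLib.exists_affine_nhd x
    obtain ⟨t, ht⟩ := (TopologicalSpace.NoetherianSpace.isCompact (Set.univ : Set X)).elim_finite_subcover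
      (fun x : X => (U x : Set X)) (fun x => (U x).2) fun x _ => Set.mem_iUnion.2 ⟨x, hx x⟩
    refine ⟨t.image fun x => ⟨U x, hU x⟩, fun y => ?_⟩
    obtain ⟨x, hxt, hy⟩ := Set.mem_iUnion₂.1 (ht (Set.mem_univ y))
    exact ⟨⟨U x, hU x⟩, Finset.mem_image_of_mem _ hxt, hy⟩
  have hAR : ∀ V : X.affineOpens, ∃ c : ℕ, ∀ n, c < n → ∀ z : Γ(K, V.1),
      k.app V.1 z ∈ (J₀.ideal V ^ n • ⊤ : Submodule Γ(X, V.1) Γ(G, V.1)) → z = 0 := by
    intro V
    haveI : IsNoetherianRing Γ(X, V.1) := IsLocallyNoetherian.component_noetherian V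
    haveI := QCohLib.finite_of_isFT hG.2 V.2
    let κ := QCohLib.appLin k V.1
    obtain ⟨c, hc⟩ := Ideal.exists_pow_inf_eq_pow_smul (J₀.ideal V) (LinearMap.range κ)
    refine ⟨c, fun n hn z hz => QCohLib.app_injective_of_mono k V.1 ?_⟩
    have h1 : k.app V.1 z ∈ J₀.ideal V ^ n • ⊤ ⊓ LinearMap.range κ := ⟨hz, ⟨z, rfl⟩⟩
    rw [hc n hn.le] at h1
    have h2 : J₀.ideal V ^ (n - c) • (J₀.ideal V ^ c • ⊤ ⊓ LinearMap.range κ) ≤ ⊥ := by
      refine Submodule.smul_le.2 fun r hr w hw => ?_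
      obtain ⟨y, rfl⟩ := hw.2
      rw [Submodule.mem_bot, ← map_smul,
        Module.mem_annihilator.1 (Ideal.pow_le_self (by omega) hr : r ∈ J₀.ideal V) y, map_zero]
    rw [map_zero]
    exact h2 h1
  choose c hc using hAR
  let n := C.sup c + 1
  refine ⟨J₀ ^ n, ?_, ?_⟩
  · rw [Scheme.IdealSheafData.support_pow _ _ (Nat.succ_ne_zero _), DevissLib.support_annIdeal]
    exact hη
  · haveI := (isCoh_quot (J₀ ^ n) hG).1
    refine mono_of_app_injective _ fun x => ?_
    obtain ⟨V, hV, hx⟩ := hC x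
    refine ⟨V.1, V.2, hx, (injective_iff_map_eq_zero _).2 fun z hz => ?_⟩
    refine hc V n (Nat.lt_succ_of_le (Finset.le_sup hV)) z ?_
    have h := (FormalCohLib.app_quotKπ_eq_zero (J₀ ^ n) G V.2 _).1 hz
    rwa [show (J₀ ^ n).ideal ⟨V.1, V.2⟩ = J₀.ideal V ^ n from pow_ideal J₀ n V] at h

/-- For a map to a module supported away from a point, some ideal sheaf multiplies the source into the kernel. -/
theorem exists_ideal_comp_zero [AlgebraicGeometry.IsNoetherian X] {G Q : X.Modules} (hQ : Coh.IsCoh Q)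
    (φ : G ⟶ Q) {η : X} (hη : η ∉ CohB1.support Q) :
    ∃ J : X.IdealSheafData, η ∉ (J.support : Set X) ∧ Dual3.idealMulι J G ≫ φ = 0 := by
  haveI := hQ.1
  refine ⟨DevissLib.annIdeal Q hQ.2, by rwa [DevissLib.support_annIdeal], ?_⟩
  obtain ⟨ψ, hψ, -⟩ := FormalCohLib.existsUnique_quotK (DevissLib.annIdeal Q hQ.2)
    (DevissLib.killed_annIdeal Q hQ.2) φ
  rw [← hψ, ← Category.assoc]
  show (kernel.ι _ ≫ _) ≫ ψ = 0
  rw [kernel.condition, zero_comp]

end DevissExt

end
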